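import Groth.Agent.L24.Princ.Points
import Mathlib.AlgebraicGeometry.Group.Affine

/-!
Density of the rational points of an affine group scheme over an algebraically closed field.
-/

set_option autoImplicit false

universe u

open CategoryTheory Opposite MonoidalCategory MonObj GrpObj AlgebraicGeometry CategoryTheory.Limits

noncomputable section

namespace Groth.L24.Princ

/-- The Hopf algebra of global sections, with the base ring explicit. -/
@[implicit_reducible]
def hopfΓ {R : CommRingCat.{u}} (X : Scheme.{u}) [X.Over (Spec R)]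
    [GrpObj (X.asOver (Spec R))] [IsAffine X] : HopfAlgebra R Γ(X, ⊤) := inferInstance

/-- The algebra structure on global sections, with a field as base. -/
theorem exists_point_mem {k : Type u} [Field k] [IsAlgClosed k] (X : Scheme.{u}) [X.Over (Spec (CommRingCat.of k))]
    [GrpObj (X.asOver (Spec (CommRingCat.of k)))] [IsAffine X] {U : X.Opens} (hU : (U : Set X).Nonempty) :
    ∃ p : Spec (CommRingCat.of k) ⟶ X, p ≫ X ↘ Spec (CommRingCat.of k) = 𝟙 _ ∧
      p (IsLocalRing.closedPoint k) ∈ U := by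
  letI : HopfAlgebra k Γ(X, ⊤) := hopfΓ (R := CommRingCat.of k) X
  obtain ⟨x, hx⟩ := hU
  obtain ⟨f, hfU, hxf⟩ := (isAffineOpen_top X).exists_basicOpen_le (V := U) ⟨x, hx⟩ trivial
  have hf : ¬ IsNilpotent f := fun h =>
    (h.map (X.presheaf.germ ⊤ x trivial).hom).not_isUnit ((X.mem_basicOpen f x trivial).1 hxf)
  obtain ⟨g, hg⟩ := exists_point_ne_zero (k := k) hf
  let φ : Γ(X, ⊤) ⟶ CommRingCat.of k := CommRingCat.ofHom g.toRingHom
  have hφ : (Spec.map φ ≫ X.isoSpec.inv) ≫ X ↘ Spec (CommRingCat.of k) = 𝟙 _ := by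
    have hinv : Spec.map (CommRingCat.ofHom (algebraMap k Γ(X, ⊤))) =
        X.isoSpec.inv ≫ X ↘ Spec (CommRingCat.of k) :=
      Spec.fullyFaithful.map_preimage (X := op Γ(X, ⊤)) (Y := op (CommRingCat.of k)) _
    rw [Category.assoc, ← hinv, ← Spec.map_comp, ← Spec.map_id]
    congr 1
    refine CommRingCat.hom_ext (RingHom.ext fun r => ?_)
    exact g.commutes r
  refine ⟨Spec.map φ ≫ X.isoSpec.inv, hφ, hfU ?_⟩
  have h1 : (Spec.map φ) (IsLocalRing.closedPoint k) ∈ PrimeSpectrum.basicOpen f := by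
    show f ∉ (IsLocalRing.maximalIdeal k).comap g.toRingHom
    rw [Ideal.mem_comap, IsLocalRing.maximalIdeal_eq_bot]
    exact hg
  have h2 : X.isoSpec.inv ⁻¹ᵁ X.basicOpen f = PrimeSpectrum.basicOpen f := by
    rw [← IsAffineOpen.fromSpec_top]
    exact (isAffineOpen_top X).fromSpec_preimage_basicOpen f
  rw [← h2] at h1
  exact h1

end Groth.L24.Princ
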