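import Groth.Agent.L25.HopfSub
import Groth.Agent.L25.HopfFlatGen
import Groth.Agent.L08.CartierRed
import Mathlib.Order.Zorn
import Mathlib.Algebra.Field.ULift

/-!
Rational points of affine group schemes over an algebraically closed field, of arbitrary type:
points of a Hopf subalgebra extend, and points separate elements that are not nilpotent.
-/

set_option autoImplicit false

universe u v

open TensorProduct

namespace Groth.L24.Princ

open Groth.L25

/-- A nonzero algebra of finite type over an algebraically closed field has points, at every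
maximal ideal. -/
theorem exists_point_max {k : Type u} [Field k] [IsAlgClosed k] {R : Type v} [CommRing R]
    [Algebra k R] [Algebra.FiniteType k R] (m : Ideal R) [m.IsMaximal] :
    ∃ χ : R →ₐ[k] k, ∀ x, χ x = 0 ↔ x ∈ m := by
  letI := Ideal.Quotient.field m
  haveI : Algebra.FiniteType k (R ⧸ m) :=
    Algebra.FiniteType.of_surjective (Ideal.Quotient.mkₐ k m) Ideal.Quotient.mk_surjective
  haveI : Module.Finite k (R ⧸ m) := finite_of_finite_type_of_isJacobsonRing k (R ⧸ m)
  let ι : R ⧸ m →ₐ[k] k := IsAlgClosed.lift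
  refine ⟨ι.comp (Ideal.Quotient.mkₐ k m), fun x => ?_⟩
  rw [← Ideal.Quotient.eq_zero_iff_mem]
  exact ⟨fun h => (RingHom.injective ι.toRingHom) (h.trans (map_zero ι).symm),
    fun h => by simp [h]⟩

section

variable {k : Type u} [Field k] {A : Type u} [CommRing A] [HopfAlgebra k A]

theorem j_range_mono {B C : Subalgebra k A} (h : B ≤ C) :
    LinearMap.range (TensorProduct.map B.val.toLinearMap B.val.toLinearMap) ≤
      LinearMap.range (TensorProduct.map C.val.toLinearMap C.val.toLinearMap) := by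
  have : B.val.toLinearMap = C.val.toLinearMap ∘ₗ (Subalgebra.inclusion h).toLinearMap := rfl
  rw [this, TensorProduct.map_comp]
  exact LinearMap.range_comp_le_range _ _

theorem isHopfSubalgebra_sup {B C : Subalgebra k A} (hB : SGA3.IsHopfSubalgebra k A B)
    (hC : SGA3.IsHopfSubalgebra k A C) : SGA3.IsHopfSubalgebra k A (B ⊔ C) := by
  let S : A →ₐ[k] A := HopfAlgebra.antipodeAlgHom k A
  refine ⟨fun b hb => ?_, fun b hb => ?_⟩
  · have h : B ⊔ C ≤ (HopfSub.j (B ⊔ C)).range.comap (Bialgebra.comulAlgHom k A) :=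
      sup_le (fun x hx => j_range_mono le_sup_left (hB.1 x hx))
        (fun x hx => j_range_mono le_sup_right (hC.1 x hx))
    exact h hb
  · have h : B ⊔ C ≤ (B ⊔ C).comap S :=
      sup_le (fun x hx => le_sup_left (a := B) (b := C) (hB.2 x hx))
        (fun x hx => le_sup_right (a := B) (b := C) (hC.2 x hx))
    exact h hb

/-- A point of a Hopf subalgebra extends to a bigger one containing a given element. -/
theorem exists_point_step [IsAlgClosed k] (C : Subalgebra k A) (hC : SGA3.IsHopfSubalgebra k A C)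
    (χ : C →ₐ[k] k) (a : A) :
    ∃ (C' : Subalgebra k A) (h : C ≤ C') (χ' : C' →ₐ[k] k), SGA3.IsHopfSubalgebra k A C' ∧
      a ∈ C' ∧ χ'.comp (Subalgebra.inclusion h) = χ := by
  classical
  obtain ⟨B, hB, hBfg, hBH⟩ := HopfSub.exists_fg k A {a}
  haveI := HopfFlat.faithfullyFlat C hC
  let m : Ideal C := RingHom.ker χ
  let I : Ideal A := m.map (algebraMap C A)
  let q : A →ₐ[k] A ⧸ I := Ideal.Quotient.mkₐ k I
  have hI : I ≠ ⊤ := by
    intro h
    have h1 : m = ⊤ := by
      rw [← Ideal.comap_map_eq_self_of_faithfullyFlat (B := A) m]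
      exact (congrArg (Ideal.comap (algebraMap C A)) h).trans Ideal.comap_top
    exact RingHom.ker_ne_top χ.toRingHom h1
  haveI : Nontrivial (A ⧸ I) := Ideal.Quotient.nontrivial_iff.2 hI
  have hqC : ∀ c : C, q (c : A) = algebraMap k _ (χ c) := by
    intro c
    have hm : c - algebraMap k C (χ c) ∈ m := by
      simp [m, RingHom.mem_ker]
    have h2 : q ((c - algebraMap k C (χ c) : C) : A) = 0 :=
      Ideal.Quotient.eq_zero_iff_mem.2 (Ideal.mem_map_of_mem _ hm)
    rw [Subalgebra.coe_sub, Subalgebra.coe_algebraMap, map_sub, AlgHom.commutes, sub_eq_zero] at h2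
    exact h2
  let R := (C ⊔ B).map q
  have hR : R = B.map q := by
    refine le_antisymm ?_ (Subalgebra.map_mono le_sup_right)
    rw [show R = (C ⊔ B).map q from rfl, Algebra.map_sup]
    refine sup_le ?_ le_rfl
    rintro - ⟨c, hc, rfl⟩
    exact hqC ⟨c, hc⟩ ▸ Subalgebra.algebraMap_mem _ _
  haveI : Algebra.FiniteType k R := R.fg_iff_finiteType.1 (hR ▸ hBfg.map q)
  haveI : Nontrivial R := ⟨⟨0, 1, fun h => zero_ne_one (congrArg Subtype.val h)⟩⟩
  obtain ⟨n, hn⟩ := Ideal.exists_maximal R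
  obtain ⟨χ1, -⟩ := exists_point_max (k := k) n
  let p : (C ⊔ B : Subalgebra k A) →ₐ[k] R :=
    (q.comp (C ⊔ B).val).codRestrict R fun x => ⟨x, x.2, rfl⟩
  refine ⟨C ⊔ B, le_sup_left, χ1.comp p, isHopfSubalgebra_sup hC hBH,
    le_sup_right (a := C) (b := B) (hB (Finset.mem_singleton_self a)), AlgHom.ext fun c => ?_⟩
  have : p (Subalgebra.inclusion le_sup_left c) = algebraMap k R (χ c) := Subtype.ext (hqC c)
  simp [this]

/-- A point of a Hopf subalgebra extends to the whole algebra. -/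
theorem exists_point_extend [IsAlgClosed k] (C : Subalgebra k A)
    (hC : SGA3.IsHopfSubalgebra k A C) (χ : C →ₐ[k] k) :
    ∃ g : A →ₐ[k] k, g.comp C.val = χ := by
  classical
  let π : A × k →ₐ[k] A := AlgHom.fst k A k
  let gr : Subalgebra k (A × k) := (C.val.prod χ).range
  let 𝒮 : Set (Subalgebra k (A × k)) :=
    {Γ | (∀ c : k, ((0 : A), c) ∈ Γ → c = 0) ∧ SGA3.IsHopfSubalgebra k A (Γ.map π) ∧ gr ≤ Γ}
  have hgr : gr ∈ 𝒮 := by
    refine ⟨?_, ?_, le_rfl⟩
    · rintro c ⟨x, hx⟩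
      have h1 : x = 0 := Subtype.ext (congrArg Prod.fst hx)
      have h2 : χ x = c := congrArg Prod.snd hx
      simp [← h2, h1]
    · have : gr.map π = C := by
        rw [← AlgHom.range_comp]
        ext a
        exact ⟨by rintro ⟨x, rfl⟩; exact x.2, fun ha => ⟨⟨a, ha⟩, rfl⟩⟩
      rw [this]
      exact hC
  obtain ⟨Γ, -, hmax⟩ := zorn_le_nonempty₀ 𝒮 (fun c hc hch y hy => by
    refine ⟨sSup c, ?_, fun z hz => le_sSup hz⟩
    have hdir : DirectedOn (· ≤ ·) c := hch.directedOn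
    have hmem : ∀ z : A × k, z ∈ sSup c → ∃ Γ ∈ c, z ∈ Γ := by
      intro z hz
      haveI : Nonempty c := ⟨⟨y, hy⟩⟩
      rw [sSup_eq_iSup', ← SetLike.mem_coe,
        Subalgebra.coe_iSup_of_directed hdir.directed_val, Set.mem_iUnion] at hz
      obtain ⟨Γ, hΓ⟩ := hz
      exact ⟨Γ.1, Γ.2, hΓ⟩
    refine ⟨fun a ha => ?_, ⟨?_, ?_⟩, (hc hy).2.2.trans (le_sSup hy)⟩
    · obtain ⟨Γ, hΓ, h⟩ := hmem _ ha
      exact (hc hΓ).1 a h
    · rintro b ⟨z, hz, rfl⟩
      obtain ⟨Γ, hΓ, h⟩ := hmem _ hz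
      exact j_range_mono (Subalgebra.map_mono (le_sSup hΓ)) ((hc hΓ).2.1.1 _ ⟨z, h, rfl⟩)
    · rintro b ⟨z, hz, rfl⟩
      obtain ⟨Γ, hΓ, h⟩ := hmem _ hz
      exact Subalgebra.map_mono (le_sSup hΓ) ((hc hΓ).2.1.2 _ ⟨z, h, rfl⟩)) gr hgr
  obtain ⟨hΓ0, hΓH, hΓgr⟩ := hmax.prop
  let pr : Γ →ₐ[k] A := π.comp Γ.val
  have hinj : Function.Injective pr := by
    intro x y h
    have h1 : ((0 : A), x.1.2 - y.1.2) ∈ Γ := by
      have : x.1.1 = y.1.1 := h
      have e : x.1 - y.1 = ((0 : A), x.1.2 - y.1.2) := Prod.ext (sub_eq_zero.2 this) rfl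
      exact e ▸ Γ.sub_mem x.2 y.2
    exact Subtype.ext (Prod.ext h (sub_eq_zero.1 (hΓ0 _ h1)))
  let D := Γ.map π
  have hD : pr.range = D := by
    rw [AlgHom.range_comp, Subalgebra.range_val]
  let e : Γ ≃ₐ[k] D := (AlgEquiv.ofInjective pr hinj).trans (Subalgebra.equivOfEq _ _ hD)
  let χD : D →ₐ[k] k := ((AlgHom.snd k A k).comp Γ.val).comp e.symm.toAlgHom
  have hχD : ∀ x : Γ, χD ⟨x.1.1, ⟨x.1, x.2, rfl⟩⟩ = x.1.2 := by
    intro x
    have : (⟨x.1.1, ⟨x.1, x.2, rfl⟩⟩ : D) = e x := rfl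
    change (e.symm (⟨x.1.1, ⟨x.1, x.2, rfl⟩⟩ : D)).1.2 = x.1.2
    rw [this, AlgEquiv.symm_apply_apply]
  have htop : ∀ a : A, a ∈ D := by
    intro a
    obtain ⟨C', hle, χ', hC', ha, hext⟩ := exists_point_step D hΓH χD a
    let Γ' : Subalgebra k (A × k) := (C'.val.prod χ').range
    have hle' : Γ ≤ Γ' := by
      intro z hz
      refine ⟨⟨z.1, hle ⟨z, hz, rfl⟩⟩, Prod.ext rfl ?_⟩
      exact (AlgHom.congr_fun hext ⟨z.1, ⟨z, hz, rfl⟩⟩).trans (hχD ⟨z, hz⟩)
    have hΓ' : Γ' ∈ 𝒮 := by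
      refine ⟨?_, ?_, hΓgr.trans hle'⟩
      · rintro c ⟨x, hx⟩
        have h1 : x = 0 := Subtype.ext (congrArg Prod.fst hx)
        have h2 : χ' x = c := congrArg Prod.snd hx
        simp [← h2, h1]
      · have : Γ'.map π = C' := by
          rw [← AlgHom.range_comp]
          ext b
          exact ⟨by rintro ⟨x, rfl⟩; exact x.2, fun hb => ⟨⟨b, hb⟩, rfl⟩⟩
        rw [this]
        exact hC'
    have h := hmax.eq_of_le hΓ' hle'
    exact ⟨(a, χ' ⟨a, ha⟩), h ▸ ⟨⟨a, ha⟩, rfl⟩, rfl⟩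
  refine ⟨χD.comp ((AlgHom.id k A).codRestrict D htop), AlgHom.ext fun c => ?_⟩
  have hc : ((c : A), χ c) ∈ Γ := hΓgr ⟨c, rfl⟩
  exact hχD ⟨_, hc⟩

/-- Points separate elements which are not nilpotent. -/
theorem exists_point_ne_zero [IsAlgClosed k] {a : A} (ha : ¬ IsNilpotent a) :
    ∃ g : A →ₐ[k] k, g a ≠ 0 := by
  classical
  obtain ⟨B, hB, hBfg, hBH⟩ := HopfSub.exists_fg k A {a}
  haveI : Algebra.FiniteType k B := B.fg_iff_finiteType.1 hBfg
  haveI : IsJacobsonRing B := isJacobsonRing_of_finiteType (A := k) (B := B)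
  let b : B := ⟨a, hB (Finset.mem_singleton_self a)⟩
  have hb : b ∉ (⊥ : Ideal B).radical := fun h => ha (by
    obtain ⟨n, hn⟩ := h
    exact ⟨n, congrArg Subtype.val (Ideal.mem_bot.1 hn)⟩)
  rw [Ideal.radical_eq_jacobson, Ideal.jacobson, Submodule.mem_sInf] at hb
  push Not at hb
  obtain ⟨m, ⟨-, hm⟩, hbm⟩ := hb
  haveI := hm
  obtain ⟨χ, hχ⟩ := exists_point_max (k := k) m
  obtain ⟨g, hg⟩ := exists_point_extend B hBH χ
  refine ⟨g, fun h => hbm ((hχ b).1 ?_)⟩
  rw [← hg]
  exact h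

theorem eq_zero_of_isNilpotent [CharZero k] {a : A} (ha : IsNilpotent a) : a = 0 := by
  obtain ⟨B, hB, hBfg, hBH⟩ := HopfSub.exists_fg k A {a}
  letI := HopfSub.hopfAlgebra hBH
  haveI : Algebra.FiniteType k B := B.fg_iff_finiteType.1 hBfg
  haveI := Groth.L08.CartierRed.isReduced_of_charZero (k := k) (A := B)
  have h : IsNilpotent (⟨a, hB (Finset.mem_singleton_self a)⟩ : B) := by
    obtain ⟨n, hn⟩ := ha
    exact ⟨n, Subtype.ext hn⟩
  exact congrArg Subtype.val h.eq_zero

end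

/-- In characteristic zero the rational points separate the elements, in any universe. -/
theorem eq_zero_of_forall_point (k : Type u) (A : Type v) [Field k] [IsAlgClosed k] [CharZero k]
    [CommRing A] [HopfAlgebra k A] {a : A} (h : ∀ g : A →ₐ[k] k, g a = 0) : a = 0 := by
  let K := ULift.{v} k
  let e : K ≃+* k := ULift.ringEquiv
  haveI : IsAlgClosed K := IsAlgClosed.of_exists_root _ fun p hp hirr => by
    obtain ⟨x, hx⟩ := IsAlgClosed.exists_root (p.map e.toRingHom) (by
      rw [Polynomial.degree_map_eq_of_injective e.injective]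
      exact ne_of_gt (Polynomial.degree_pos_of_irreducible hirr))
    refine ⟨e.symm x, ?_⟩
    have h1 := hx
    rw [Polynomial.IsRoot, ← e.apply_symm_apply x] at h1
    simp only [RingEquiv.toRingHom_eq_coe] at h1
    rw [← RingHom.coe_coe, Polynomial.eval_map_apply] at h1
    exact e.injective (h1.trans (map_zero e).symm)
  haveI : CharZero K := charZero_of_injective_algebraMap (algebraMap k K).injective
  refine Algebra.TensorProduct.includeRight_injective (algebraMap k K).injective (?_ : _ = _)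
  rw [map_zero]
  by_contra hne
  obtain ⟨g, hg⟩ := exists_point_ne_zero (k := K) (A := K ⊗[k] A)
    (a := (Algebra.TensorProduct.includeRight : A →ₐ[k] K ⊗[k] A) a)
    fun hn => hne (eq_zero_of_isNilpotent (k := K) hn)
  let down : K →ₐ[k] k := { e.toRingHom with commutes' := fun _ => rfl }
  let g' : A →ₐ[k] k := down.comp ((g.restrictScalars k).comp Algebra.TensorProduct.includeRight)
  exact hg (e.injective ((h g').trans (map_zero e).symm))

end Groth.L24.Princ
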