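import Groth.Agent.L24.Princ.Points
import Mathlib.AlgebraicGeometry.Group.Affine
import Mathlib.RingTheory.Spectrum.Prime.Basic

/-!
Homomorphisms of affine group schemes that are surjective are surjective on rational points.
-/

set_option autoImplicit false
set_option backward.isDefEq.respectTransparency.types false

universe u

open CategoryTheory Opposite MonoidalCategory MonObj GrpObj AlgebraicGeometry CategoryTheory.Limits

noncomputable section

namespace Groth.L24.Princ

open Groth.L25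

variable {k : Type u} [Field k]

theorem isHopfSubalgebra_range {A' A : Type u} [CommRing A'] [HopfAlgebra k A'] [CommRing A]
    [HopfAlgebra k A] (φ : A' →ₐc[k] A) :
    SGA3.IsHopfSubalgebra k A (φ : A' →ₐ[k] A).range := by
  let f : A' →ₐ[k] A := (φ : A' →ₐ[k] A)
  let B : Subalgebra k A := f.range
  refine ⟨?_, ?_⟩
  · rintro b ⟨a, rfl⟩
    let g : A' →ₐ[k] B := f.rangeRestrict
    refine ⟨TensorProduct.map g.toLinearMap g.toLinearMap (Coalgebra.comul (R := k) a), ?_⟩
    have h : (TensorProduct.map B.val.toLinearMap B.val.toLinearMap) ∘ₗ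
        (TensorProduct.map g.toLinearMap g.toLinearMap) =
        TensorProduct.map f.toLinearMap f.toLinearMap := by
      rw [← TensorProduct.map_comp]
      rfl
    exact (LinearMap.congr_fun h _).trans (CoalgHomClass.map_comp_comul_apply φ a)
  · rintro b ⟨a, rfl⟩
    refine ⟨HopfAlgebraStruct.antipode (R := k) a, ?_⟩
    have h1 : (HopfFlat.preHom (R' := A) φ)
        (WithConv.toConv (HopfAlgebra.antipodeAlgHom k A)) * WithConv.toConv f = 1 := by
      have h2 := (HopfFlat.conv_antipode (AlgHom.id k A)).2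
      have h3 := congrArg (HopfFlat.preHom (R' := A) φ) h2
      rw [map_mul, map_one] at h3
      exact h3
    have h4 := (HopfFlat.conv_antipode f).1
    have h5 := left_inv_eq_right_inv h1 h4
    exact (AlgHom.congr_fun (congrArg WithConv.ofConv h5) a).symm

theorem exists_point_of_surjective_spec [IsAlgClosed k] {A' A : Type u} [CommRing A']
    [HopfAlgebra k A'] [CommRing A] [HopfAlgebra k A] (φ : A' →ₐc[k] A)
    (hs : Function.Surjective (PrimeSpectrum.comap (φ : A' →+* A))) (χ : A' →ₐ[k] k) :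
    ∃ g : A →ₐ[k] k, g.comp (φ : A' →ₐ[k] A) = χ := by
  let f : A' →ₐ[k] A := (φ : A' →ₐ[k] A)
  have hker : RingHom.ker f.rangeRestrict ≤ RingHom.ker χ := by
    intro a ha
    obtain ⟨q, hq⟩ := hs ⟨RingHom.ker χ, RingHom.ker_isPrime _⟩
    have : a ∈ q.asIdeal.comap (φ : A' →+* A) := by
      rw [Ideal.mem_comap, show (φ : A' →+* A) a = 0 from congrArg Subtype.val ha]
      exact zero_mem _
    have e : (PrimeSpectrum.comap (φ : A' →+* A) q).asIdeal = RingHom.ker χ :=
      congrArg PrimeSpectrum.asIdeal hq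
    exact e ▸ this
  obtain ⟨g, hg⟩ := exists_point_extend f.range (isHopfSubalgebra_range φ)
    (AlgHom.liftOfSurjective f.rangeRestrict f.rangeRestrict_surjective χ hker)
  refine ⟨g, AlgHom.ext fun a => ?_⟩
  have h1 := AlgHom.congr_fun hg (f.rangeRestrict a)
  exact h1.trans (AlgHom.liftOfSurjective_apply _ _ _ _ _)

theorem exists_point_lift [IsAlgClosed k] {G G' : Over (Spec (CommRingCat.of k))}
    [GrpObj G] [GrpObj G'] [IsAffine G.left] [IsAffine G'.left] (h : G ⟶ G') [IsMonHom h]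
    (hs : Surjective h.left) (x : 𝟙_ (Over (Spec (CommRingCat.of k))) ⟶ G') :
    ∃ g : 𝟙_ (Over (Spec (CommRingCat.of k))) ⟶ G, g ≫ h = x := by
  obtain ⟨A, ⟨e⟩⟩ := (essImage_hopfSpec (G := ({ X := G } : Grp _))).2 ‹IsAffine G.left›
  obtain ⟨A', ⟨e'⟩⟩ := (essImage_hopfSpec (G := ({ X := G' } : Grp _))).2 ‹IsAffine G'.left›
  let f : ({ X := G } : Grp (Over (Spec (CommRingCat.of k)))) ⟶ { X := G' } := Grp.homMk h
  obtain ⟨ψ, hψ⟩ := (hopfSpec.fullyFaithful (R := CommRingCat.of k)).map_surjective (e.hom ≫ f ≫ e'.inv)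
  let φ : A'.unop →ₐc[k] A.unop := CommHopfAlgCat.Hom.hom ψ.unop
  let a : Spec (CommRingCat.of A.unop) ⟶ G.left := e.hom.hom.hom.left
  let b : G'.left ⟶ Spec (CommRingCat.of A'.unop) := e'.inv.hom.hom.left
  let b' : Spec (CommRingCat.of A'.unop) ⟶ G'.left := e'.hom.hom.hom.left
  haveI ha : IsIso a := ((Grp.forget _ ⋙ Over.forget _).mapIso e).isIso_hom
  haveI hb : IsIso b := ((Grp.forget _ ⋙ Over.forget _).mapIso e').isIso_inv
  have hbb : b ≫ b' = 𝟙 _ := ((Grp.forget _ ⋙ Over.forget _).mapIso e').inv_hom_id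
  have haw : a ≫ G.hom = Spec.map (CommRingCat.ofHom (algebraMap k A.unop)) :=
    Over.w e.hom.hom.hom
  have hbw : b ≫ Spec.map (CommRingCat.ofHom (algebraMap k A'.unop)) = G'.hom :=
    Over.w e'.inv.hom.hom
  have hl : Spec.map (CommRingCat.ofHom (φ : A'.unop →+* A.unop)) = a ≫ h.left ≫ b :=
    congrArg (fun F => F.hom.hom.left) hψ
  have hsurj : Function.Surjective (PrimeSpectrum.comap (φ : A'.unop →+* A.unop)) := by
    haveI := hs
    have : Surjective (Spec.map (CommRingCat.ofHom (φ : A'.unop →+* A.unop))) := by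
      rw [hl]; infer_instance
    exact this.surj
  let x₀ : Spec (CommRingCat.of k) ⟶ G'.left := x.left
  have hx₀ : x₀ ≫ G'.hom = 𝟙 (Spec (CommRingCat.of k)) := Over.w x
  let χ₀ : (CommRingCat.of A'.unop) ⟶ CommRingCat.of k := Spec.preimage (x₀ ≫ b)
  have hχ : CommRingCat.ofHom (algebraMap k A'.unop) ≫ χ₀ = 𝟙 (CommRingCat.of k) := by
    apply Spec.map_injective
    rw [Spec.map_comp, Spec.map_preimage, Spec.map_id, Category.assoc, hbw, hx₀]
  let χ : A'.unop →ₐ[k] k :=
    { χ₀.hom with commutes' := fun r => RingHom.congr_fun (congrArg CommRingCat.Hom.hom hχ) r }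
  obtain ⟨g, hg⟩ := exists_point_of_surjective_spec φ hsurj χ
  let q : Spec (CommRingCat.of k) ⟶ Spec (CommRingCat.of A.unop) :=
    Spec.map (CommRingCat.ofHom g.toRingHom)
  have hg' : q ≫ a ≫ h.left ≫ b = x₀ ≫ b := by
    rw [← hl, ← Spec.map_comp]
    refine Eq.trans (congrArg Spec.map ?_) (Spec.map_preimage (x₀ ≫ b))
    exact CommRingCat.hom_ext (congrArg (fun F : A'.unop →ₐ[k] k => F.toRingHom) hg)
  have hq : (q ≫ a) ≫ G.hom = 𝟙 (Spec (CommRingCat.of k)) := by
    rw [Category.assoc, haw, ← Spec.map_comp, ← Spec.map_id]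
    exact congrArg Spec.map (CommRingCat.hom_ext (RingHom.ext g.commutes))
  refine ⟨Over.homMk (q ≫ a) hq, Over.OverMorphism.ext ?_⟩
  have h2 : (q ≫ a) ≫ h.left = x₀ := by
    rw [← cancel_mono b]
    simpa only [Category.assoc] using hg'
  exact h2

end Groth.L24.Princ
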